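import Groth.Prelude.Def_DefoSh2
import Groth.Prelude.Def_DefoConn
import Groth.Agent.KFlat.Pullback
import Groth.Agent.LocFree.Props
import Mathlib.RingTheory.Flat.EquationalCriterion

/-!
# First order deformations of modules: the extension `0 → E → D → E → 0` and its tensor products
-/

set_option autoImplicit false
set_option backward.isDefEq.respectTransparency false
set_option linter.style.haveILetI false
universe u

open CategoryTheory CategoryTheory.Limits AlgebraicGeometry TopologicalSpace Opposite MonoidalCategory ArtFun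

namespace Groth.Agent.DefoLib

variable {X : Scheme.{u}}

/-- the map on stalks, as a morphism of modules over the local ring -/
noncomputable abbrev st {M N : X.Modules} (φ : M ⟶ N) (x : X) :=
  (DerSch.stalkFunctor X x).map φ

theorem st_apply {M N : X.Modules} (φ : M ⟶ N) (x : X) (v : ↑(M.presheaf.stalk x)) :
    (st φ x).hom v = RefHull.stalkMapₗ φ x v := rfl

theorem epi_of_stalk {M N : X.Modules} (φ : M ⟶ N)
    (h : ∀ x, Function.Surjective (RefHull.stalkMapₗ φ x)) : Epi φ := by
  refine Preadditive.epi_of_isZero_cokernel φ (KFlat.isZero_of_stalks _ fun x => ?_)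
  haveI : Epi ((DerSch.stalkFunctor X x).map φ) := (ModuleCat.epi_iff_surjective _).2 (h x)
  exact (isZero_cokernel_of_epi ((DerSch.stalkFunctor X x).map φ)).of_iso
    (PreservesCokernel.iso (DerSch.stalkFunctor X x) φ)

theorem mono_of_stalk {M N : X.Modules} (φ : M ⟶ N)
    (h : ∀ x, Function.Injective (RefHull.stalkMapₗ φ x)) : Mono φ := by
  refine Preadditive.mono_of_isZero_kernel φ (KFlat.isZero_of_stalks _ fun x => ?_)
  haveI : Mono ((DerSch.stalkFunctor X x).map φ) := (ModuleCat.mono_iff_injective _).2 (h x)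
  exact (isZero_kernel_of_mono ((DerSch.stalkFunctor X x).map φ)).of_iso
    (PreservesKernel.iso (DerSch.stalkFunctor X x) φ)

theorem shortExact_of_stalk (S : ShortComplex X.Modules)
    (h : ∀ x, (S.map (DerSch.stalkFunctor X x)).ShortExact) : S.ShortExact where
  exact := (ShortComplex.exact_iff_isZero_homology S).2 (KFlat.isZero_of_stalks _ fun x =>
    ((ShortComplex.exact_iff_isZero_homology _).1 (h x).exact).of_iso
      (S.mapHomologyIso (DerSch.stalkFunctor X x)).symm)
  mono_f := mono_of_stalk _ fun x => (ModuleCat.mono_iff_injective _).1 (h x).mono_f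
  epi_g := epi_of_stalk _ fun x => (ModuleCat.epi_iff_surjective _).1 (h x).epi_g

/-- tensoring with `N` on the right -/
noncomputable abbrev T (N : X.Modules) : X.Modules ⥤ X.Modules := DCoh.tensorBi.flip.obj N

theorem tensorMap_eq {M M' : X.Modules} (N : X.Modules) (φ : M ⟶ M') :
    KoszTw.tensorMap φ (𝟙 N) = (T N).map φ := by
  unfold KoszTw.tensorMap
  rw [CategoryTheory.Functor.map_id]
  exact Category.comp_id _

section Tmul

variable {M M' N P : X.Modules}

/-- A morphism out of a tensor product is determined by its values on pure tensors. -/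
theorem hom_ext_tmul {φ ψ : CohB1.tensorMod M N ⟶ P}
    (h : ∀ (U : X.Opens) (m : Γ(M, U)) (n : Γ(N, U)),
      φ.app U (SecTwist.tmul M N U m n) = ψ.app U (SecTwist.tmul M N U m n)) : φ = ψ := by
  refine ((PresheafOfModules.sheafificationAdjunction.{u, u, u, u}
    (J := Opens.grothendieckTopology X) (𝟙 X.ringCatSheaf.obj)).homEquiv _ _).injective ?_
  refine PresheafOfModules.hom_ext fun U => ModuleCat.MonoidalCategory.tensor_ext fun m n => ?_
  exact h U.unop m n

theorem tmul_add_left (U : X.Opens) (m m' : Γ(M, U)) (n : Γ(N, U)) :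
    SecTwist.tmul M N U (m + m') n = SecTwist.tmul M N U m n + SecTwist.tmul M N U m' n := by
  simp only [SecTwist.tmul, TensorProduct.add_tmul, map_add]

theorem tmul_smul_left (U : X.Opens) (t : Γ(X, U)) (m : Γ(M, U)) (n : Γ(N, U)) :
    SecTwist.tmul M N U (t • m) n = t • SecTwist.tmul M N U m n :=
  LinearMap.map_smul ((SecTwist.toTensor M N).app (op U)).hom t (m ⊗ₜ n)

theorem T_add (f g : M ⟶ M') : (T N).map (f + g) = (T N).map f + (T N).map g := by
  simp only [← tensorMap_eq]
  refine hom_ext_tmul fun U m n => ?_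
  change _ = (KoszTw.tensorMap f (𝟙 N)).app U _ + (KoszTw.tensorMap g (𝟙 N)).app U _
  rw [KoszTw.tensorMap_tmul, KoszTw.tensorMap_tmul, KoszTw.tensorMap_tmul, ← tmul_add_left]
  rfl

theorem T_additive : (T N).Additive := ⟨fun {_ _ f g} => T_add f g⟩

theorem T_smul {k : Type u} [Field k] [X.Over (Spec (CommRingCat.of k))] (c : k) (f : M ⟶ M') :
    (T N).map (c • f) = c • (T N).map f := by
  simp only [← tensorMap_eq]
  refine hom_ext_tmul fun U m n => ?_
  rw [KLin.smul_app_apply, KoszTw.tensorMap_tmul, KoszTw.tensorMap_tmul, KLin.smul_app_apply, tmul_smul_left]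

end Tmul

section Dual

variable {k : Type u} [Field k]

theorem dual_eq (a : DualNumber k) : a = a.fst • (1 : DualNumber k) + a.snd • DualNumber.eps :=
  TrivSqZeroExt.ext (by simp) (by simp)

theorem dual_eq_eps_mul (a : DualNumber k) (ha : a.fst = 0) :
    a = DualNumber.eps * TrivSqZeroExt.inl a.snd :=
  TrivSqZeroExt.ext (by simp [ha]) (by simp)

theorem fst_eq_zero_of_eps_mul (a : DualNumber k) (ha : DualNumber.eps * a = 0) : a.fst = 0 := by
  simpa using congrArg TrivSqZeroExt.snd ha

end Dual

section Defo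

variable {k : Type u} [Field k] [X.Over (Spec (CommRingCat.of k))] {E : X.Modules}
  (D : DefoSh.Defo E (Art.dual k k)) (ι : E ⟶ D.sheaf)
  (hι : D.π ≫ ι = D.act (DualNumber.eps : DualNumber k))

include hι

theorem epi_π : Epi D.π := by
  have := hι
  exact epi_of_stalk _ D.surj

theorem ι_π : ι ≫ D.π = 0 := by
  haveI := epi_π D ι hι
  rw [← cancel_epi D.π, comp_zero, ← Category.assoc, hι]
  exact D.act_π _ rfl

theorem eps_smul (p : X) (v : ↑(D.sheaf.presheaf.stalk p)) :
    letI := DefoSh.stalkModule D.sheaf D.act.toRingHom p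
    (show Art.dual k k from (DualNumber.eps : DualNumber k)) • v = RefHull.stalkMapₗ ι p (RefHull.stalkMapₗ D.π p v) := by
  letI := DefoSh.stalkModule D.sheaf D.act.toRingHom p
  rw [← DefoSh.stalkMapₗ_comp_apply, hι]
  rfl

theorem shortExact : (ShortComplex.mk ι D.π (ι_π D ι hι)).ShortExact := by
  refine shortExact_of_stalk _ fun p => ?_
  letI inst : Module (Art.dual k k) ↑(D.sheaf.presheaf.stalk p) := DefoSh.stalkModule D.sheaf D.act.toRingHom p
  let ε : Art.dual k k := (DualNumber.eps : DualNumber k)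
  have hε : ∀ v, ε • v = RefHull.stalkMapₗ ι p (RefHull.stalkMapₗ D.π p v) := eps_smul D ι hι p
  have hm : ∀ a : Art.dual k k, a ∈ IsLocalRing.maximalIdeal (Art.dual k k) →
      ∃ c : Art.dual k k, a = ε * c := by
    intro a ha
    rw [Art.mem_maximalIdeal_iff] at ha
    exact ⟨(TrivSqZeroExt.inl (TrivSqZeroExt.snd (show DualNumber k from a)) : DualNumber k),
      dual_eq_eps_mul (show DualNumber k from a) ha⟩
  have hzero : ∀ a : Art.dual k k, a ∈ IsLocalRing.maximalIdeal (Art.dual k k) → ∀ v,
      RefHull.stalkMapₗ D.π p (a • v) = 0 := by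
    intro a ha v
    rw [Art.mem_maximalIdeal_iff] at ha
    change RefHull.stalkMapₗ D.π p (RefHull.stalkMapₗ (D.act a) p v) = 0
    rw [← DefoSh.stalkMapₗ_comp_apply, D.act_π a ha, DefoSh.stalkMapₗ_zero_apply]
  refine { exact := ?_, mono_f := ?_, epi_g := (ModuleCat.epi_iff_surjective _).2 (D.surj p) }
  · rw [ShortComplex.moduleCat_exact_iff]
    intro v hv
    have hv' := D.ker_le p v hv
    refine Submodule.smul_induction_on (p := fun w => ∃ e, RefHull.stalkMapₗ ι p e = w) hv'
      (fun a ha w _ => ?_) (fun w w' ⟨e, he⟩ ⟨e', he'⟩ => ⟨e + e', by rw [map_add, he, he']⟩)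
    obtain ⟨c, rfl⟩ := hm a ha
    exact ⟨_, ((hε (c • w)).symm.trans (mul_smul ε c w).symm)⟩
  · rw [ModuleCat.mono_iff_injective]
    refine (injective_iff_map_eq_zero _).2 fun e he => ?_
    obtain ⟨v, rfl⟩ := D.surj p e
    haveI : Module.Flat (Art.dual k k) ↑(D.sheaf.presheaf.stalk p) := D.flat p
    obtain ⟨n, a, y, hy, ha⟩ := Module.Flat.isTrivialRelation_of_sum_smul_eq_zero
      (f := fun _ : Unit => ε) (x := fun _ => v) (by simpa using (hε v).trans he)
    rw [show v = ∑ j, a () j • y j from hy (), map_sum]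
    refine Finset.sum_eq_zero fun j _ => hzero _ ?_ _
    rw [Art.mem_maximalIdeal_iff]
    exact fst_eq_zero_of_eps_mul (show DualNumber k from a () j) (by simpa using ha j)

theorem act_eq (a : Art.dual k k) : ∃ c d : k, D.act a = c • 𝟙 D.sheaf + d • (D.π ≫ ι) := by
  refine ⟨(show DualNumber k from a).fst, (show DualNumber k from a).snd, ?_⟩
  have h : (a : Art.dual k k) = (show DualNumber k from a).fst • (1 : Art.dual k k) +
      (show DualNumber k from a).snd • (show Art.dual k k from (DualNumber.eps : DualNumber k)) := by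
    exact dual_eq (show DualNumber k from a)
  conv_lhs => rw [h]
  rw [map_add, map_smul, map_smul, map_one, ← hι]
  rfl

theorem act_comp_π_comp (a : Art.dual k k) {Z : X.Modules} (g : E ⟶ Z) :
    ∃ c : k, D.act a ≫ D.π ≫ g = c • (D.π ≫ g) ∧ ι ≫ D.act a = c • ι := by
  obtain ⟨c, d, h⟩ := act_eq D ι hι a
  have h0 := ι_π D ι hι
  refine ⟨c, ?_, ?_⟩
  · rw [h, Preadditive.add_comp, Linear.smul_comp, Linear.smul_comp, Category.id_comp,
      Category.assoc, reassoc_of% h0, zero_comp, comp_zero, smul_zero, add_zero]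
  · rw [h, Preadditive.comp_add, Linear.comp_smul, Linear.comp_smul, Category.comp_id,
      reassoc_of% h0, zero_comp, smul_zero, add_zero]

/-- `0 → E ⊗ N → D ⊗ N → E ⊗ N → 0` is exact for finite locally free `E`. -/
theorem shortExact_T (hE : FlatMod.IsFinLocFree E) (N : X.Modules) :
    ∃ h0 : (T N).map ι ≫ (T N).map D.π = 0, (ShortComplex.mk _ _ h0).ShortExact := by
  haveI := T_additive (N := N)
  refine ⟨by rw [← Functor.map_comp, ι_π D ι hι, Functor.map_zero], shortExact_of_stalk _ fun p => ?_⟩
  let S := ShortComplex.mk ι D.π (ι_π D ι hι)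
  haveI : Module.Free (X.presheaf.stalk p) (E.presheaf.stalk p) := LocFree.free_stalk_of_isFinLocFree hE p
  haveI : Projective (S.map (DerSch.stalkFunctor X p)).X₃ :=
    ModuleCat.projective_of_free (ι := Module.Free.ChooseBasisIndex (X.presheaf.stalk p) (E.presheaf.stalk p))
      (Module.Free.chooseBasis (X.presheaf.stalk p) (E.presheaf.stalk p))
  have sp := ((shortExact D ι hι).map_of_exact (DerSch.stalkFunctor X p)).splittingOfProjective
  exact ShortComplex.shortExact_of_iso (S.mapNatIso (KFlat.stTensorRightIso N p))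
    (sp.map (tensorRight ((DerSch.stalkFunctor X p).obj N))).shortExact

end Defo

end Groth.Agent.DefoLib
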