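import Groth.Agent.CechStair.Basic
import Groth.Prelude.Def_CohB1
import Mathlib.Algebra.Homology.ShortComplex.Ab

/-!
# First Čech cohomology of a cover by two opens
-/

set_option autoImplicit false
set_option backward.isDefEq.respectTransparency false
set_option linter.style.haveILetI false

universe u

open CategoryTheory CategoryTheory.Limits Opposite TopologicalSpace
open Groth.Agent.SiteCoh

namespace Groth.Agent.DefoLib

variable {X : TopCat.{u}} (U : ULift.{u} (Fin 2) → Opens X) (P : (Opens X)ᵒᵖ ⥤ AddCommGrpCat.{u})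

/-- the first index -/
abbrev j₀ : ULift.{u} (Fin 2) := ⟨0⟩
/-- the second index -/
abbrev j₁ : ULift.{u} (Fin 2) := ⟨1⟩

/-- restriction -/
noncomputable abbrev pr {A B : Opens X} (h : B ≤ A) : P.obj (op A) →+ P.obj (op B) := (P.map (homOfLE h).op).hom

theorem pr_pr {A B C : Opens X} (h : B ≤ A) (h' : C ≤ B) (s : P.obj (op A)) :
    pr P h' (pr P h s) = pr P (h'.trans h) s :=
  CechStair.map_map P (homOfLE h) (homOfLE h') _ s

theorem pr_self {A : Opens X} (s : P.obj (op A)) : pr P (le_refl A) s = s := by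
  change (P.map (𝟙 (op A))).hom s = s
  rw [P.map_id]
  rfl

theorem pr_injective {A B : Opens X} (h : B ≤ A) (h' : A ≤ B) : Function.Injective (pr P h) := fun s t e => by
  have := congrArg (pr P h') e
  rwa [pr_pr, pr_pr, pr_self, pr_self] at this

theorem mem_le {p : ℕ} (a : Fin (p + 1) → ULift.{u} (Fin 2)) (k : Fin (p + 1)) : tupleProd U a ≤ U (a k) :=
  (CechStair.toMem a k).le

/-- restriction of a value of a cochain -/
theorem pr_congr {n : ℕ} (x : Cochain U P n) {a a' : Fin (n + 1) → ULift.{u} (Fin 2)} (e : a = a') {W : Opens X}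
    (h : W ≤ tupleProd U a) (h' : W ≤ tupleProd U a') : pr P h (x a) = pr P h' (x a') := by
  subst e; rfl

theorem cd_apply_res {n : ℕ} (x : Cochain U P n) (a : Fin (n + 2) → ULift.{u} (Fin 2)) {W : Opens X}
    (h : W ≤ tupleProd U a) :
    pr P h (cd U P x a) = ∑ k : Fin (n + 2), (-1 : ℤ) ^ (k : ℕ) •
      pr P (h.trans (tupleDrop U a k).le) (x (a ∘ k.succAbove)) := by
  rw [cd_sum, map_sum]
  refine Finset.sum_congr rfl fun k _ => ?_
  rw [map_zsmul]
  congr 1
  exact CechStair.map_map P (tupleDrop U a k) (homOfLE h) _ _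

/-- the alternating coefficient of a pair of indices -/
def coef (i j : ULift.{u} (Fin 2)) : ℤ := (j.down.val : ℤ) - (i.down.val : ℤ)

theorem tupleProd_le_of_ne (a : Fin 2 → ULift.{u} (Fin 2)) (h : a 0 ≠ a 1) :
    tupleProd U a ≤ U j₀ ⊓ U j₁ := by
  have h0 : ∃ k, a k = j₀ := by
    rcases a with a
    match h0 : (a 0).down, h1 : (a 1).down with
    | 0, _ => exact ⟨0, ULift.ext _ _ h0⟩
    | 1, 0 => exact ⟨1, ULift.ext _ _ h1⟩
    | 1, 1 => exact absurd (ULift.ext _ _ (h0.trans h1.symm)) h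
  have h1 : ∃ k, a k = j₁ := by
    rcases a with a
    match h0 : (a 0).down, h1 : (a 1).down with
    | 1, _ => exact ⟨0, ULift.ext _ _ h0⟩
    | 0, 1 => exact ⟨1, ULift.ext _ _ h1⟩
    | 0, 0 => exact absurd (ULift.ext _ _ (h0.trans h1.symm)) h
  obtain ⟨k, hk⟩ := h0
  obtain ⟨l, hl⟩ := h1
  exact le_inf (hk ▸ mem_le U a k) (hl ▸ mem_le U a l)

open Classical in
/-- the alternating cochain of a section over the overlap -/
noncomputable def altCochain (y : P.obj (op (U j₀ ⊓ U j₁))) : Cochain U P 1 := fun a =>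
  if h : tupleProd U a ≤ U j₀ ⊓ U j₁ then coef (a 0) (a 1) • pr P h y else 0

open Classical in
theorem pr_altCochain (y : P.obj (op (U j₀ ⊓ U j₁))) (a : Fin 2 → ULift.{u} (Fin 2)) {W : Opens X}
    (hW : W ≤ tupleProd U a) :
    pr P hW (altCochain U P y a) =
      if h : W ≤ U j₀ ⊓ U j₁ then coef (a 0) (a 1) • pr P h y else 0 := by
  unfold altCochain
  by_cases h : tupleProd U a ≤ U j₀ ⊓ U j₁
  · rw [dif_pos h, dif_pos (hW.trans h), map_zsmul, pr_pr]
  · have : a 0 = a 1 := by_contra fun hne => h (tupleProd_le_of_ne U a hne)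
    rw [dif_neg h, map_zero]
    split_ifs <;> simp [coef, this]

theorem cd_altCochain (y : P.obj (op (U j₀ ⊓ U j₁))) : cd U P (altCochain U P y) = 0 := by
  classical
  funext a
  rw [← pr_self P (cd U P (altCochain U P y) a), cd_apply_res, Fin.sum_univ_three]
  simp only [pr_altCochain]
  simp only [Fin.val_zero, Fin.val_one, Fin.val_two, pow_zero, pow_one, Pi.zero_apply, Function.comp_apply]
  have e : ((0 : Fin 3).succAbove 0 = 1 ∧ (0 : Fin 3).succAbove 1 = 2) ∧
      ((1 : Fin 3).succAbove 0 = 0 ∧ (1 : Fin 3).succAbove 1 = 2) ∧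
      ((2 : Fin 3).succAbove 0 = 0 ∧ (2 : Fin 3).succAbove 1 = 1) := by decide
  simp only [e.1.1, e.1.2, e.2.1.1, e.2.1.2, e.2.2.1, e.2.2.2]
  split_ifs
  · rw [smul_smul, smul_smul, smul_smul, ← add_smul, ← add_smul]
    convert zero_smul ℤ _
    simp [coef]
  · simp

/-- a cocycle vanishing on the overlap vanishes -/
theorem eq_zero_of_cocycle (x : Cochain U P 1) (hx : cd U P x = 0)
    (h : ∀ hle : U j₀ ⊓ U j₁ ≤ tupleProd U ![j₀, j₁], pr P hle (x ![j₀, j₁]) = 0) : x = 0 := by
  have hcoc : ∀ (a : Fin 3 → ULift.{u} (Fin 2)) {W : Opens X} (hW : W ≤ tupleProd U a),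
      pr P (hW.trans (tupleDrop U a 0).le) (x (a ∘ (0 : Fin 3).succAbove)) -
        pr P (hW.trans (tupleDrop U a 1).le) (x (a ∘ (1 : Fin 3).succAbove)) +
        pr P (hW.trans (tupleDrop U a 2).le) (x (a ∘ (2 : Fin 3).succAbove)) = 0 := fun a W hW => by
    have := cd_apply_res U P x a hW
    rw [hx, Fin.sum_univ_three] at this
    simpa [sub_eq_add_neg] using this.symm
  have key : ∀ (i j : ULift.{u} (Fin 2)), x ![i, j] = 0 := by
    have hdiag : ∀ i, x ![i, i] = 0 := fun i => by
      have hW : U i ≤ tupleProd U ![i, i, i] := CechStair.le_tupleProd _ _ fun k => by fin_cases k <;> exact le_rfl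
      have hle : U i ≤ tupleProd U ![i, i] := CechStair.le_tupleProd _ _ fun k => by fin_cases k <;> exact le_rfl
      have := hcoc _ hW
      rw [pr_congr U P x (a' := ![i, i]) (by funext k; fin_cases k <;> rfl) _ hle,
        pr_congr U P x (a := ![i, i, i] ∘ (1 : Fin 3).succAbove) (a' := ![i, i])
          (by funext k; fin_cases k <;> rfl) _ hle,
        pr_congr U P x (a := ![i, i, i] ∘ (2 : Fin 3).succAbove) (a' := ![i, i])
          (by funext k; fin_cases k <;> rfl) _ hle, sub_self, zero_add] at this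
      exact pr_injective P hle (mem_le U ![i, i] 0) (this.trans (map_zero _).symm)
    have hle01 : U j₀ ⊓ U j₁ ≤ tupleProd U ![j₀, j₁] := CechStair.le_tupleProd _ _ fun k => by
      fin_cases k
      exacts [inf_le_left, inf_le_right]
    have h01 : x ![j₀, j₁] = 0 :=
      pr_injective P hle01 (tupleProd_le_of_ne U _ (by simp [j₀, j₁])) ((h hle01).trans (map_zero _).symm)
    have h10 : x ![j₁, j₀] = 0 := by
      have hle : U j₀ ⊓ U j₁ ≤ tupleProd U ![j₁, j₀] := CechStair.le_tupleProd _ _ fun k => by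
        fin_cases k
        exacts [inf_le_right, inf_le_left]
      have hW : U j₀ ⊓ U j₁ ≤ tupleProd U ![j₀, j₁, j₀] := CechStair.le_tupleProd _ _ fun k => by
        fin_cases k
        exacts [inf_le_left, inf_le_right, inf_le_left]
      have hle00 : U j₀ ⊓ U j₁ ≤ tupleProd U ![j₀, j₀] := CechStair.le_tupleProd _ _ fun k => by
        fin_cases k <;> exact inf_le_left
      have := hcoc _ hW
      rw [pr_congr U P x (a' := ![j₁, j₀]) (by funext k; fin_cases k <;> rfl) _ hle,
        pr_congr U P x (a := ![j₀, j₁, j₀] ∘ (1 : Fin 3).succAbove) (a' := ![j₀, j₀])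
          (by funext k; fin_cases k <;> rfl) _ hle00,
        pr_congr U P x (a := ![j₀, j₁, j₀] ∘ (2 : Fin 3).succAbove) (a' := ![j₀, j₁])
          (by funext k; fin_cases k <;> rfl) _ hle01, hdiag, h01, map_zero, map_zero, sub_zero, add_zero] at this
      exact pr_injective P hle (le_inf (mem_le U ![j₁, j₀] 1) (mem_le U ![j₁, j₀] 0)) (this.trans (map_zero _).symm)
    rintro ⟨i⟩ ⟨j⟩
    fin_cases i <;> fin_cases j
    exacts [hdiag _, h01, h10, hdiag _]
  funext a
  have e : a = ![a 0, a 1] := by funext k; fin_cases k <;> rfl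
  generalize a 0 = i, a 1 = j at e
  subst e
  exact key i j

/-- The first Čech group of a cover by two opens is the cokernel of the difference of restrictions. -/
theorem exists_cechOne :
    ∃ q : P.obj (op (U j₀ ⊓ U j₁)) →+ CohB1.cechHTop U P 1, Function.Surjective q ∧
      ∀ y, q y = 0 ↔ ∃ (s : P.obj (op (U j₀))) (t : P.obj (op (U j₁))),
        pr P inf_le_left s - pr P inf_le_right t = y := by
  let K := cechCx U P
  let S := K.sc' 0 1 2
  let e : CohB1.cechHTop U P 1 ≅ AddCommGrpCat.of (AddMonoidHom.ker S.g.hom ⧸ S.abToCycles.range) :=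
    ShortComplex.homologyMapIso (K.isoSc' 0 1 2 (by simp) (by simp)) ≪≫ S.abHomologyIso
  let c := cochainEquiv U P 1
  have hker : ∀ x : K.X 1, x ∈ AddMonoidHom.ker S.g.hom ↔ cd U P (c x) = 0 := fun x => d_eq_zero_iff U P 1 x
  have hadd : ∀ y y', altCochain U P (y + y') = altCochain U P y + altCochain U P y' := fun y y' => funext fun a => by
    simp only [altCochain, Pi.add_apply]
    split_ifs <;> simp
  let η : P.obj (op (U j₀ ⊓ U j₁)) →+ AddMonoidHom.ker S.g.hom := AddMonoidHom.mk'
    (fun y => ⟨c.symm (altCochain U P y), (hker _).2 (by rw [AddEquiv.apply_symm_apply]; exact cd_altCochain U P y)⟩)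
    fun y y' => Subtype.ext (by simp only [hadd, map_add]; rfl)
  have hle : U j₀ ⊓ U j₁ ≤ tupleProd U ![j₀, j₁] := CechStair.le_tupleProd _ _ fun k => by
    fin_cases k
    exacts [inf_le_left, inf_le_right]
  let ev : AddMonoidHom.ker S.g.hom →+ P.obj (op (U j₀ ⊓ U j₁)) :=
    (pr P hle).comp (AddMonoidHom.mk' (fun x => c x.1 ![j₀, j₁]) fun x x' => by
      change c (x.1 + x'.1) _ = _
      rw [map_add]; rfl)
  have hev : ∀ y, ev (η y) = y := fun y => by
    change pr P hle (c (c.symm (altCochain U P y)) ![j₀, j₁]) = y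
    rw [AddEquiv.apply_symm_apply, pr_altCochain, dif_pos le_rfl, pr_self]
    simp [coef, j₀, j₁]
  have hinj : Function.Injective ev := (injective_iff_map_eq_zero _).2 fun x hx => by
    refine Subtype.ext (c.injective ?_)
    change c x.1 = c 0
    rw [map_zero]
    exact eq_zero_of_cocycle U P _ ((hker _).1 x.2) fun _ => hx
  have hη : Function.Surjective η := fun x => ⟨ev x, hinj (hev _)⟩
  let q : P.obj (op (U j₀ ⊓ U j₁)) →+ CohB1.cechHTop U P 1 :=
    e.addCommGroupIsoToAddEquiv.symm.toAddMonoidHom.comp ((QuotientAddGroup.mk' S.abToCycles.range).comp η)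
  refine ⟨q, e.addCommGroupIsoToAddEquiv.symm.surjective.comp ((QuotientAddGroup.mk'_surjective _).comp hη), fun y => ?_⟩
  have hq : q y = 0 ↔ η y ∈ S.abToCycles.range := by
    change e.addCommGroupIsoToAddEquiv.symm (QuotientAddGroup.mk' _ (η y)) = 0 ↔ _
    rw [AddEquiv.map_eq_zero_iff]
    exact QuotientAddGroup.eq_zero_iff _
  have hd : ∀ w : K.X 0, ev (S.abToCycles w) =
      pr P (le_trans inf_le_right (CechStair.le_tupleProd _ _ fun _ => le_rfl)) (cochainEquiv U P 0 w fun _ => j₁) -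
      pr P (le_trans inf_le_left (CechStair.le_tupleProd _ _ fun _ => le_rfl)) (cochainEquiv U P 0 w fun _ => j₀) := by
    intro w
    change pr P hle (c ((cechCx U P).d 0 1 w) ![j₀, j₁]) = _
    rw [cochainEquiv_d, cd_apply_res, Fin.sum_univ_two]
    simp only [Fin.val_zero, Fin.val_one, pow_zero, pow_one, one_smul, neg_smul, ← sub_eq_add_neg]
    congr 1
    · exact pr_congr U P _ (by funext k; fin_cases k; rfl) _ _
    · exact pr_congr U P _ (by funext k; fin_cases k; rfl) _ _
  rw [hq]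
  constructor
  · rintro ⟨w, hw⟩
    have := congrArg ev hw
    rw [hd, hev] at this
    exact ⟨-pr P (CechStair.le_tupleProd _ _ fun _ => le_rfl) (cochainEquiv U P 0 w fun _ => j₀),
      -pr P (CechStair.le_tupleProd _ _ fun _ => le_rfl) (cochainEquiv U P 0 w fun _ => j₁),
      by rw [map_neg, map_neg, pr_pr, pr_pr, ← this]; abel⟩
  · rintro ⟨s, t, rfl⟩
    have hm : ∀ a : Fin 1 → ULift.{u} (Fin 2), tupleProd U a ≤ U (a 0) := fun a => mem_le U a 0
    let r : ∀ i : ULift.{u} (Fin 2), P.obj (op (U i)) := fun i => match i with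
      | ⟨0⟩ => -s
      | ⟨1⟩ => -t
    refine ⟨(cochainEquiv U P 0).symm (fun a => pr P (hm a) (r (a 0))), hinj ?_⟩
    rw [hd, hev, AddEquiv.apply_symm_apply, pr_pr, pr_pr]
    change pr P _ (-t) - pr P _ (-s) = _
    simp only [map_neg]
    abel

end Groth.Agent.DefoLib
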