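import Groth.Agent.DefoLib.Basic

/-!
# Connections on first order deformations
-/

set_option autoImplicit false
set_option backward.isDefEq.respectTransparency false
set_option linter.style.haveILetI false
universe u

open CategoryTheory CategoryTheory.Limits AlgebraicGeometry TopologicalSpace Opposite ArtFun

namespace Groth.Agent.DefoLib

variable {X : Scheme.{u}} {Ω' M M' : X.Modules}

/-- the underlying abelian sheaf -/
noncomputable abbrev F (X : Scheme.{u}) := SheafOfModules.toSheaf.{u} X.ringCatSheaf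

theorem ab_ext {A B : X.Modules} {f g : Coh.toAb A ⟶ Coh.toAb B}
    (h : ∀ (U : X.Opens) (x : A.val.obj (op U)), ConnSh.secApp f U x = ConnSh.secApp g U x) : f = g := by
  ext U x
  exact h U.unop x

theorem tensorMap_id_comp {M'' N : X.Modules} (φ : M ⟶ M') (ψ : M' ⟶ M'') :
    KoszTw.tensorMap (φ ≫ ψ) (𝟙 N) = KoszTw.tensorMap φ (𝟙 N) ≫ KoszTw.tensorMap ψ (𝟙 N) := by
  conv_lhs => rw [← Category.comp_id (𝟙 N)]
  exact KoszTw.tensorMap_comp _ _ _ _

theorem tensorMap_zero (N : X.Modules) : KoszTw.tensorMap (0 : M ⟶ M') (𝟙 N) = 0 := by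
  haveI := T_additive (N := N)
  rw [tensorMap_eq]
  exact (T N).map_zero _ _

theorem tensorMap_smul {k : Type u} [Field k] [X.Over (Spec (CommRingCat.of k))] (N : X.Modules) (c : k) (φ : M ⟶ M') :
    KoszTw.tensorMap (c • φ) (𝟙 N) = c • KoszTw.tensorMap φ (𝟙 N) := by
  rw [tensorMap_eq, tensorMap_eq]
  exact T_smul c φ

theorem isHorizontal_iff {c : Coh.toAb M ⟶ Coh.toAb (CohB1.tensorMod M Ω')}
    {c' : Coh.toAb M' ⟶ Coh.toAb (CohB1.tensorMod M' Ω')} {φ : M ⟶ M'} :
    ConnSh.IsHorizontal c c' φ ↔ (F X).map φ ≫ c' = c ≫ (F X).map (KoszTw.tensorMap φ (𝟙 Ω')) := by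
  exact ⟨fun h => ab_ext fun U x => h U x, fun h U x =>
    congrArg (fun f : Coh.toAb M ⟶ Coh.toAb (CohB1.tensorMod M' Ω') => ConnSh.secApp f U x) h⟩

/-- the underlying map of a linear map is linear -/
theorem secApp_map_smul {A B : X.Modules} (φ : A ⟶ B) (U : X.Opens) (t : Γ(X, U)) (x : A.val.obj (op U)) :
    ConnSh.secApp ((F X).map φ) U (t • x) = t • ConnSh.secApp ((F X).map φ) U x :=
  φ.app_smul t x

/-- an abelian sheaf map linear on sections comes from a linear map -/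
theorem exists_linear {A B : X.Modules} (f : Coh.toAb A ⟶ Coh.toAb B)
    (h : ∀ (U : X.Opens) (t : Γ(X, U)) (x : A.val.obj (op U)),
      ConnSh.secApp f U (t • x) = t • ConnSh.secApp f U x) : ∃ φ : A ⟶ B, (F X).map φ = f :=
  ⟨⟨PresheafOfModules.homMk f.hom fun U t x => h U.unop t x⟩, rfl⟩

section Defo

variable {k : Type u} [Field k] [X.Over (Spec (CommRingCat.of k))]
  {δ : OmegaSh.Der (X ↘ Spec (CommRingCat.of k)) Ω'} {E : X.Modules}
  {nabla : Coh.toAb E ⟶ Coh.toAb (CohB1.tensorMod E Ω')}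
  {D : DefoSh.Defo E (Art.dual k k)} {ι : E ⟶ D.sheaf}

theorem isConn_add_linear {c : Coh.toAb M ⟶ Coh.toAb (CohB1.tensorMod M Ω')} (hc : ConnSh.IsConn δ M c)
    (φ : M ⟶ CohB1.tensorMod M Ω') : ConnSh.IsConn δ M (c + (F X).map φ) := fun U t x => by
  change ConnSh.secApp c U (t • x) + ConnSh.secApp ((F X).map φ) U (t • x) =
    t • (ConnSh.secApp c U x + ConnSh.secApp ((F X).map φ) U x) + _
  rw [hc U, secApp_map_smul, smul_add]
  abel

/-- the difference of two connections is linear -/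
theorem exists_linear_sub {c c' : Coh.toAb M ⟶ Coh.toAb (CohB1.tensorMod M Ω')} (hc : ConnSh.IsConn δ M c)
    (hc' : ConnSh.IsConn δ M c') : ∃ φ : M ⟶ CohB1.tensorMod M Ω', (F X).map φ = c' - c := by
  refine exists_linear (B := CohB1.tensorMod M Ω') _ fun U t x => ?_
  change ConnSh.secApp c' U (t • x) - ConnSh.secApp c U (t • x) =
    t • (ConnSh.secApp c' U x - ConnSh.secApp c U x)
  rw [hc U, hc' U, smul_sub]
  abel

variable (hι : D.π ≫ ι = D.act (DualNumber.eps : DualNumber k))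

include hι

/-- every deformation of the connection makes `ι` horizontal -/
theorem ι_horizontal (c : DefoSh.DefoConn δ nabla D) :
    (F X).map ι ≫ c.conn = nabla ≫ (F X).map (KoszTw.tensorMap ι (𝟙 Ω')) := by
  haveI := epi_π D ι hι
  haveI : Epi ((F X).map D.π) := Functor.map_epi _ _
  have hπ := isHorizontal_iff.1 c.π_horizontal
  have hε := isHorizontal_iff.1 (c.act_horizontal (show Art.dual k k from (DualNumber.eps : DualNumber k)))
  rw [← hι, Functor.map_comp, tensorMap_id_comp, Functor.map_comp, Category.assoc] at hε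
  rw [← cancel_epi ((F X).map D.π)]
  refine hε.trans ?_
  rw [← Category.assoc, ← hπ, Category.assoc]

theorem act_comm (a : Art.dual k k) (φ : E ⟶ CohB1.tensorMod E Ω') :
    D.act a ≫ (D.π ≫ φ ≫ KoszTw.tensorMap ι (𝟙 Ω')) = (D.π ≫ φ ≫ KoszTw.tensorMap ι (𝟙 Ω')) ≫ KoszTw.tensorMap (D.act a) (𝟙 Ω') := by
  obtain ⟨c, h1, h2⟩ := act_comp_π_comp D ι hι a (φ ≫ KoszTw.tensorMap ι (𝟙 Ω'))
  rw [h1, Category.assoc, Category.assoc, ← tensorMap_id_comp, h2, tensorMap_smul, Linear.comp_smul, Linear.comp_smul]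

/-- a connection deforming `∇` plus a map through `E` is again one -/
noncomputable def translate (c : DefoSh.DefoConn δ nabla D) (φ : E ⟶ CohB1.tensorMod E Ω') :
    DefoSh.DefoConn δ nabla D where
  conn := c.conn + (F X).map (D.π ≫ φ ≫ KoszTw.tensorMap ι (𝟙 Ω'))
  isConn := isConn_add_linear c.isConn _
  act_horizontal a := by
    rw [isHorizontal_iff, Preadditive.comp_add, Preadditive.add_comp,
      isHorizontal_iff.1 (c.act_horizontal a), ← Functor.map_comp, ← Functor.map_comp, act_comm hι]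
  π_horizontal := by
    rw [isHorizontal_iff, Preadditive.add_comp, isHorizontal_iff.1 c.π_horizontal, ← Functor.map_comp,
      Category.assoc, Category.assoc, ← tensorMap_id_comp, ι_π D ι hι, tensorMap_zero, comp_zero,
      comp_zero, Functor.map_zero, add_zero]

theorem exists_factor (hE : FlatMod.IsFinLocFree E) (c c₀ : DefoSh.DefoConn δ nabla D) :
    ∃! φ : E ⟶ CohB1.tensorMod E Ω', c.conn - c₀.conn = (F X).map (D.π ≫ φ ≫ KoszTw.tensorMap ι (𝟙 Ω')) := by
  haveI := T_additive (N := Ω')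
  haveI := epi_π D ι hι
  obtain ⟨h0, hT⟩ := shortExact_T D ι hι hE Ω'
  haveI : Mono (KoszTw.tensorMap ι (𝟙 Ω')) := by
    rw [tensorMap_eq]
    exact hT.mono_f
  obtain ⟨d, hd⟩ := exists_linear_sub c₀.isConn c.isConn
  have hdπ : d ≫ KoszTw.tensorMap D.π (𝟙 Ω') = 0 := by
    refine (F X).map_injective ?_
    rw [Functor.map_comp, hd, Preadditive.sub_comp, ← isHorizontal_iff.1 c.π_horizontal,
      ← isHorizontal_iff.1 c₀.π_horizontal, sub_self, Functor.map_zero]
  have hιd : ι ≫ d = 0 := by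
    refine (F X).map_injective ?_
    rw [Functor.map_comp, hd, Preadditive.comp_sub, ι_horizontal hι c, ι_horizontal hι c₀, sub_self,
      Functor.map_zero]
  haveI : Mono (ShortComplex.mk _ _ h0).f := hT.mono_f
  have hdπ' : d ≫ (T Ω').map D.π = 0 := by rwa [tensorMap_eq] at hdπ
  obtain ⟨d₁, hd₁⟩ : ∃ d₁ : D.sheaf ⟶ CohB1.tensorMod E Ω', d₁ ≫ KoszTw.tensorMap ι (𝟙 Ω') = d :=
    ⟨hT.exact.lift d hdπ', by rw [tensorMap_eq]; exact hT.exact.lift_f d hdπ'⟩
  have hιd₁ : ι ≫ d₁ = 0 := by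
    rw [← cancel_mono (KoszTw.tensorMap ι (𝟙 Ω')), Category.assoc, hd₁, hιd, zero_comp]
  let S := ShortComplex.mk ι D.π (ι_π D ι hι)
  have hS := shortExact D ι hι
  haveI : Epi S.g := hS.epi_g
  refine ⟨hS.exact.desc d₁ hιd₁, ?_, fun φ hφ => ?_⟩
  · dsimp only
    rw [← hd, ← Category.assoc]
    congr 1
    exact ((congrArg (· ≫ KoszTw.tensorMap ι (𝟙 Ω')) (hS.exact.g_desc d₁ hιd₁)).trans hd₁).symm
  · rw [← hd] at hφ
    have := (F X).map_injective hφ
    rw [← cancel_epi D.π, ← cancel_mono (KoszTw.tensorMap ι (𝟙 Ω')), Category.assoc, ← this]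
    exact ((congrArg (· ≫ KoszTw.tensorMap ι (𝟙 Ω')) (hS.exact.g_desc d₁ hιd₁)).trans hd₁).symm

end Defo

end Groth.Agent.DefoLib
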